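import Mathlib

/-! Matrices commuting with a permutation having two cycles of prime length. -/

set_option autoImplicit false

namespace CfsgLib.Perm.TwoP

open Finset
open scoped ComplexConjugate

variable {p : ℕ} [hp : Fact p.Prime]

local notation "ψ" => ZMod.stdAddChar (N := p)

theorem conj_psi (a : ZMod p) : conj (ψ a : ℂ) = ψ (-a) := by
  rw [AddChar.map_neg_eq_inv, ZMod.stdAddChar_apply, ← Circle.coe_inv_eq_conj, Circle.coe_inv]

theorem sum_psi (t : ZMod p) : ∑ d : ZMod p, (ψ (d * t) : ℂ) = if t = 0 then (p : ℂ) else 0 := by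
  rw [AddChar.sum_mulShift t (ZMod.isPrimitive_stdAddChar p), ZMod.card]
  split_ifs <;> simp

/-- A rational combination of the powers of a primitive root vanishes only when constant. -/
theorem const_of_sum_eq_zero (f : ZMod p → ℚ) {t : ZMod p} (ht : t ≠ 0)
    (h : ∑ d : ZMod p, (f d : ℂ) * ψ (t * d) = 0) (d : ZMod p) : f d = f 0 := by
  set ζ : ℂ := ψ t with hζdef
  have hpow : ∀ d : ZMod p, ζ ^ d.val = ψ (t * d) := fun d => by
    rw [hζdef, ← AddChar.map_nsmul_eq_pow, nsmul_eq_mul, ZMod.natCast_zmod_val, mul_comm]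
  have hζ : IsPrimitiveRoot ζ p := by
    refine IsPrimitiveRoot.iff_orderOf.2 (orderOf_eq_prime ?_ ?_)
    · rw [hζdef, ← AddChar.map_nsmul_eq_pow, nsmul_eq_mul, ZMod.natCast_self, zero_mul,
        AddChar.map_zero_eq_one]
    · exact fun e => ht (ZMod.injective_stdAddChar (e.trans (AddChar.map_zero_eq_one _).symm))
  let P : Polynomial ℚ := ∑ d : ZMod p, Polynomial.C (f d) * Polynomial.X ^ d.val
  have hP : Polynomial.aeval ζ P = 0 := by
    simp only [P, map_sum, map_mul, map_pow, Polynomial.aeval_C, Polynomial.aeval_X, hpow]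
    exact h
  have hΦ : Polynomial.cyclotomic p ℚ ∣ P := by
    rw [Polynomial.cyclotomic_eq_minpoly_rat hζ hp.out.pos]
    exact minpoly.dvd ℚ ζ hP
  obtain ⟨Q, hQ⟩ := hΦ
  have hdeg : P.natDegree ≤ p - 1 := by
    refine Polynomial.natDegree_sum_le_of_forall_le _ _ fun d _ => ?_
    refine (Polynomial.natDegree_C_mul_X_pow_le _ _).trans ?_
    have := ZMod.val_lt d
    omega
  have hcoef : ∀ d : ZMod p, P.coeff d.val = f d := by
    intro d
    simp only [P, Polynomial.finsetSum_coeff, Polynomial.coeff_C_mul_X_pow]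
    rw [Finset.sum_eq_single d (fun b _ hb => if_neg fun e => hb (ZMod.val_injective p e).symm)
      (fun hd => absurd (Finset.mem_univ d) hd), if_pos rfl]
  have hQ0 : Q.natDegree = 0 := by
    by_cases hQz : Q = 0
    · simp [hQz]
    · have := congrArg Polynomial.natDegree hQ
      rw [Polynomial.natDegree_mul (Polynomial.cyclotomic_ne_zero p ℚ) hQz,
        Polynomial.natDegree_cyclotomic, Nat.totient_prime hp.out] at this
      omega
  obtain ⟨c, hc⟩ := Polynomial.natDegree_eq_zero.1 hQ0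
  have hall : ∀ d : ZMod p, f d = c := by
    intro d
    rw [← hcoef d, hQ, ← hc, Polynomial.coeff_mul_C, Polynomial.cyclotomic_prime,
      Polynomial.finsetSum_coeff, Finset.sum_eq_single d.val]
    · simp
    · intro b _ hb; rw [Polynomial.coeff_X_pow, if_neg (Ne.symm hb)]
    · intro hd; exact absurd (Finset.mem_range.2 (ZMod.val_lt d)) hd
  rw [hall d, hall 0]

variable {α : Type*}

/-- Two cycles of a shift. -/
structure Coords (p : ℕ) (α : Type*) where
  e : Fin 2 × ZMod p ≃ α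

variable (C : Coords p α)

/-- The shift. -/
def Coords.shift : α ≃ α :=
  C.e.symm.trans (((Equiv.refl (Fin 2)).prodCongr (Equiv.addRight 1)).trans C.e)

theorem Coords.shift_apply (b : Fin 2) (d : ZMod p) : C.shift (C.e (b, d)) = C.e (b, d + 1) := by
  simp [Coords.shift]

/-- Invariance under the shift. -/
def Coords.Inv (X : α → α → ℂ) : Prop := ∀ u v, X (C.shift u) (C.shift v) = X u v

theorem Coords.inv_nat {X : α → α → ℂ} (h : C.Inv X) (n : ℕ) (b b' : Fin 2) (d d' : ZMod p) :
    X (C.e (b, d + n)) (C.e (b', d' + n)) = X (C.e (b, d)) (C.e (b', d')) := by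
  induction n with
  | zero => simp
  | succ n ih => rw [Nat.cast_succ, ← add_assoc, ← add_assoc, ← C.shift_apply, ← C.shift_apply, h, ih]

theorem Coords.entry {X : α → α → ℂ} (h : C.Inv X) (b b' : Fin 2) (d d' : ZMod p) :
    X (C.e (b, d)) (C.e (b', d')) = X (C.e (b, 0)) (C.e (b', d' - d)) := by
  have := C.inv_nat h d.val b b' 0 (d' - d)
  rwa [ZMod.natCast_zmod_val, zero_add, sub_add_cancel] at this

/-- The Fourier component. -/
noncomputable def Coords.ft (X : α → α → ℂ) (t : ZMod p) (b b' : Fin 2) : ℂ :=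
  ∑ d : ZMod p, ψ (t * d) * X (C.e (b, 0)) (C.e (b', d))

/-- The component of a vector. -/
noncomputable def Coords.fv (w : α → ℂ) (t : ZMod p) (b : Fin 2) : ℂ :=
  ∑ d : ZMod p, ψ (-(t * d)) * w (C.e (b, d))

theorem Coords.ft_adjoint {X : α → α → ℂ} (h : C.Inv X) (hreal : ∀ u v, conj (X u v) = X u v)
    (t : ZMod p) (b b' : Fin 2) :
    C.ft (fun u v => X v u) t b b' = conj (C.ft X t b' b) := by
  simp only [Coords.ft, map_sum, map_mul, hreal, conj_psi]
  refine Fintype.sum_equiv (Equiv.neg (ZMod p)) _ _ fun d => ?_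
  rw [Equiv.neg_apply, C.entry h b' b d 0, zero_sub, mul_neg, neg_neg]

theorem Coords.inv_swap {X : α → α → ℂ} (h : C.Inv X) : C.Inv fun u v => X v u := fun u v => h v u

theorem Coords.ft_injective {X Y : α → α → ℂ} (b b' c c' : Fin 2)
    (h : ∀ t, C.ft X t b b' = C.ft Y t c c') (d : ZMod p) :
    X (C.e (b, 0)) (C.e (b', d)) = Y (C.e (c, 0)) (C.e (c', d)) := by
  have key : ∀ (Z : α → α → ℂ) (b b' : Fin 2),
      ∑ t : ZMod p, ψ (-(t * d)) * C.ft Z t b b' = p * Z (C.e (b, 0)) (C.e (b', d)) := by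
    intro Z b b'
    simp only [Coords.ft, Finset.mul_sum]
    rw [Finset.sum_comm, Finset.sum_eq_single d]
    · simp only [← mul_assoc, ← AddChar.map_add_eq_mul, neg_add_cancel, AddChar.map_zero_eq_one,
        one_mul, Finset.sum_const, Finset.card_univ, ZMod.card, nsmul_eq_mul]
    · intro x _ hx
      have : ∀ t : ZMod p, ψ (-(t * d)) * (ψ (t * x) * Z (C.e (b, 0)) (C.e (b', x))) =
          ψ (t * (x - d)) * Z (C.e (b, 0)) (C.e (b', x)) := fun t => by
        rw [← mul_assoc, ← AddChar.map_add_eq_mul]; congr 2; ring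
      simp only [this, ← Finset.sum_mul, sum_psi, if_neg (sub_ne_zero.2 hx), zero_mul]
    · simp
  have h1 := key X b b'
  rw [Finset.sum_congr rfl fun t _ => by rw [h t], key Y c c'] at h1
  exact (mul_left_cancel₀ (Nat.cast_ne_zero.2 hp.out.ne_zero) h1).symm

variable [Fintype α]

theorem Coords.sum_eq (f : α → ℂ) : ∑ u, f u = ∑ b : Fin 2, ∑ d : ZMod p, f (C.e (b, d)) := by
  rw [← C.e.sum_comp, Fintype.sum_prod_type]

theorem Coords.ft_mul {X Y : α → α → ℂ} (hX : C.Inv X) (hY : C.Inv Y) (t : ZMod p) (b b' : Fin 2) :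
    C.ft (fun u v => ∑ z, X u z * Y z v) t b b' = ∑ c : Fin 2, C.ft X t b c * C.ft Y t c b' := by
  simp only [Coords.ft, C.sum_eq, Finset.mul_sum, Finset.sum_mul]
  rw [Finset.sum_comm]
  refine Finset.sum_congr rfl fun c _ => ?_
  rw [Finset.sum_comm (f := fun i x => ψ (t * x) * X (C.e (b, 0)) (C.e (c, x)) * _), Finset.sum_comm]
  refine Finset.sum_congr rfl fun z _ => ?_
  refine Fintype.sum_equiv (Equiv.subRight z) _ _ fun d => ?_
  rw [C.entry hY c b' z d, Equiv.subRight_apply,
    show (ψ (t * d) : ℂ) = ψ (t * z) * ψ (t * (d - z)) by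
      rw [← AddChar.map_add_eq_mul]; congr 1; ring]
  ring

theorem Coords.fv_mulVec {X : α → α → ℂ} (hX : C.Inv X) (w : α → ℂ) (t : ZMod p) (b : Fin 2) :
    C.fv (fun u => ∑ z, X u z * w z) t b = ∑ c : Fin 2, C.ft X t b c * C.fv w t c := by
  simp only [Coords.fv, Coords.ft, C.sum_eq, Finset.mul_sum, Finset.sum_mul]
  rw [Finset.sum_comm]
  refine Finset.sum_congr rfl fun c _ => ?_
  rw [Finset.sum_comm]
  refine Finset.sum_congr rfl fun z _ => ?_
  refine Fintype.sum_equiv (Equiv.subLeft z) _ _ fun d => ?_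
  rw [C.entry hX b c d z, Equiv.subLeft_apply]
  have : (ψ (-(t * d)) : ℂ) = ψ (t * (z - d)) * ψ (-(t * z)) := by
    rw [← AddChar.map_add_eq_mul]; congr 1; ring
  rw [this]; ring

end CfsgLib.Perm.TwoP
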