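import Mathlib
import Cfsg.Agent.Lib.Perm.TwoP.Fourier

/-! The algebra of matrices commuting with a primitive group of degree twice a prime. -/

set_option autoImplicit false

namespace CfsgLib.Perm.TwoP

open Finset
open scoped ComplexConjugate Pointwise

variable {p : ℕ} [hp : Fact p.Prime] {α : Type*} [Fintype α] [DecidableEq α]

local notation "ψ" => ZMod.stdAddChar (N := p)

/-- A primitive group containing the shift. -/
structure Setup (p : ℕ) [Fact p.Prime] (α : Type*) [Fintype α] [DecidableEq α] where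
  G : Subgroup (Equiv.Perm α)
  C : Coords p α
  prim : MulAction.IsPreprimitive G α
  shift_mem : C.shift ∈ G

variable (S : Setup p α)

/-- Invariance under the group. -/
def Setup.GInv (X : α → α → ℂ) : Prop := ∀ (g : S.G) (u v : α), X (g • u) (g • v) = X u v

variable {S}

theorem Setup.GInv.cinv {X : α → α → ℂ} (h : S.GInv X) : S.C.Inv X :=
  fun u v => h ⟨_, S.shift_mem⟩ u v

theorem Setup.GInv.swap {X : α → α → ℂ} (h : S.GInv X) : S.GInv fun u v => X v u :=
  fun g u v => h g v u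

theorem Setup.GInv.mul {X Y : α → α → ℂ} (hX : S.GInv X) (hY : S.GInv Y) :
    S.GInv fun u v => ∑ z, X u z * Y z v := fun g u v => by
  refine (Fintype.sum_equiv (MulAction.toPerm g) (fun z => X u z * Y z v)
    (fun z => X (g • u) z * Y z (g • v)) fun z => ?_).symm
  rw [MulAction.toPerm_apply, hX, hY]

theorem Setup.GInv.sub_smul {X Y : α → α → ℂ} (hX : S.GInv X) (hY : S.GInv Y) (c : ℂ) :
    S.GInv fun u v => X u v - c * Y u v := fun g u v => by simp only [hX g u v, hY g u v]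

variable (S)

/-- The row sum. -/
noncomputable def Setup.rowSum (X : α → α → ℂ) : ℂ := ∑ v, X (S.C.e (0, 0)) v

/-- The eigenvalue on the difference of the two cycles. -/
noncomputable def Setup.bet (X : α → α → ℂ) : ℂ := S.C.ft X 0 0 0 - S.C.ft X 0 0 1

/-- The remaining eigenvalue. -/
noncomputable def Setup.alp (X : α → α → ℂ) (t : ZMod p) : ℂ :=
  S.C.ft X t 0 0 + S.C.ft X t 1 1 - S.bet X

theorem Setup.ft_zero (X : α → α → ℂ) (b b' : Fin 2) :
    S.C.ft X 0 b b' = ∑ d : ZMod p, X (S.C.e (b, 0)) (S.C.e (b', d)) := by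
  simp [Coords.ft]

variable {S} {X Y : α → α → ℂ}

theorem Setup.rowSum_eq (hX : S.GInv X) (u : α) : ∑ v, X u v = S.rowSum X := by
  haveI := S.prim.toIsPretransitive
  obtain ⟨g, hg⟩ := MulAction.exists_smul_eq S.G (S.C.e (0, 0)) u
  refine (Fintype.sum_equiv (MulAction.toPerm g) (fun v => X (S.C.e (0, 0)) v) (fun v => X u v)
    fun v => ?_).symm
  rw [MulAction.toPerm_apply, ← hg, hX]

theorem Setup.colSum_eq (hX : S.GInv X) (v : α) : ∑ u, X u v = S.rowSum X := by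
  have h1 : ∀ w, ∑ u, X u w = ∑ u, X u v := fun w =>
    (S.rowSum_eq hX.swap w).trans (S.rowSum_eq hX.swap v).symm
  have h2 : ∑ u, ∑ w, X u w = ∑ w, ∑ u, X u w := Finset.sum_comm
  simp only [S.rowSum_eq hX, h1, Finset.sum_const, Finset.card_univ, nsmul_eq_mul] at h2
  exact (mul_left_cancel₀ (Nat.cast_ne_zero.2 (Fintype.card_pos_iff.2 ⟨v⟩).ne') h2).symm

theorem Setup.ft_zero_sum (hX : S.GInv X) :
    S.C.ft X 0 1 1 = S.C.ft X 0 0 0 ∧ S.C.ft X 0 1 0 = S.C.ft X 0 0 1 ∧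
      S.C.ft X 0 0 0 + S.C.ft X 0 0 1 = S.rowSum X := by
  have hrow : ∀ b, S.C.ft X 0 b 0 + S.C.ft X 0 b 1 = S.rowSum X := fun b => by
    rw [← S.rowSum_eq hX (S.C.e (b, 0)), S.C.sum_eq, Fin.sum_univ_two, S.ft_zero, S.ft_zero]
  have hcol : S.C.ft X 0 0 0 + S.C.ft X 0 1 0 = S.rowSum X := by
    rw [← S.colSum_eq hX (S.C.e (0, 0)), S.C.sum_eq, Fin.sum_univ_two, S.ft_zero, S.ft_zero]
    congr 1 <;>
    · refine Fintype.sum_equiv (Equiv.neg (ZMod p)) _ _ fun d => ?_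
      rw [Equiv.neg_apply, hX.cinv |> fun h => S.C.entry h _ _ (-d) 0, zero_sub, neg_neg]
  refine ⟨?_, ?_, hrow 0⟩
  · linear_combination hrow 1 - hcol
  · linear_combination hcol - hrow 0

theorem Setup.bet_swap (hX : S.GInv X) : S.bet (fun u v => X v u) = S.bet X := by
  have : ∀ b b', S.C.ft (fun u v => X v u) 0 b b' = S.C.ft X 0 b' b := fun b b' => by
    rw [S.ft_zero, S.ft_zero]
    refine Fintype.sum_equiv (Equiv.neg (ZMod p)) _ _ fun d => ?_
    rw [Equiv.neg_apply, S.C.entry hX.cinv b' b d 0, zero_sub]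
  rw [Setup.bet, Setup.bet, this, this, (S.ft_zero_sum hX).2.1]

theorem Setup.ft_swap (hX : S.GInv X) (t : ZMod p) (b b' : Fin 2) :
    S.C.ft (fun u v => X v u) t b b' = S.C.ft X (-t) b' b := by
  simp only [Coords.ft]
  refine Fintype.sum_equiv (Equiv.neg (ZMod p)) _ _ fun d => ?_
  rw [Equiv.neg_apply, S.C.entry hX.cinv b' b d 0, zero_sub, mul_neg, neg_mul, neg_neg]

theorem Setup.alp_swap (hX : S.GInv X) (t : ZMod p) :
    S.alp (fun u v => X v u) t = S.alp X (-t) := by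
  rw [Setup.alp, Setup.alp, S.ft_swap hX, S.ft_swap hX, S.bet_swap hX]

variable (S)

/-- The vector separating the two cycles. -/
noncomputable def Setup.sgn (x : α) : ℚ := if (S.C.e.symm x).1 = 0 then 1 else -1

theorem Setup.sgn_apply (b : Fin 2) (d : ZMod p) :
    S.sgn (S.C.e (b, d)) = if b = 0 then 1 else -1 := by
  simp [Setup.sgn]

variable {S}

theorem Setup.eigen_sgn (hX : S.GInv X) (u : α) :
    ∑ z, X u z * (S.sgn z : ℂ) = S.bet X * (S.sgn u : ℂ) := by
  obtain ⟨⟨b, d⟩, rfl⟩ := S.C.e.surjective u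
  have hsh : ∀ c, ∑ d' : ZMod p, X (S.C.e (b, d)) (S.C.e (c, d')) = S.C.ft X 0 b c := fun c => by
    rw [S.ft_zero]
    refine Fintype.sum_equiv (Equiv.subRight d) _ _ fun d' => ?_
    rw [S.C.entry hX.cinv b c d d', Equiv.subRight_apply]
  rw [S.C.sum_eq, Fin.sum_univ_two]
  simp only [S.sgn_apply, if_pos, if_neg (one_ne_zero : (1 : Fin 2) ≠ 0), Rat.cast_one, Rat.cast_neg,
    mul_one, mul_neg, Finset.sum_neg_distrib, hsh, Setup.bet]
  obtain ⟨h1, h2, -⟩ := S.ft_zero_sum hX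
  fin_cases b <;> simp [h1, h2] <;> ring

theorem Setup.eigen_translate (hX : S.GInv X) (g : S.G) (u : α) :
    ∑ z, X u z * (S.sgn (g⁻¹ • z) : ℂ) = S.bet X * (S.sgn (g⁻¹ • u) : ℂ) := by
  rw [← S.eigen_sgn hX]
  refine Fintype.sum_equiv (MulAction.toPerm g⁻¹) _ _ fun z => ?_
  rw [MulAction.toPerm_apply, hX]

variable (S)

/-- A common eigenvector in each component. -/
theorem Setup.exists_vec :
    ∃ u : ZMod p → Fin 2 → ℂ, (∀ t b, u (-t) b = conj (u t b)) ∧
      (∀ t, t ≠ 0 → u t 0 * u (-t) 0 + u t 1 * u (-t) 1 ≠ 0) ∧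
      ∀ X, S.GInv X → ∀ t b, S.C.ft X t b 0 * u t 0 + S.C.ft X t b 1 * u t 1 = S.bet X * u t b := by
  have hconst : ∀ (g : S.G) (b : Fin 2) (t : ZMod p), t ≠ 0 →
      S.C.fv (fun x => (S.sgn (g⁻¹ • x) : ℂ)) t b = 0 →
      ∀ d, S.sgn (g⁻¹ • S.C.e (b, d)) = S.sgn (g⁻¹ • S.C.e (b, 0)) := by
    intro g b t ht h d
    refine const_of_sum_eq_zero (fun d => S.sgn (g⁻¹ • S.C.e (b, d))) (neg_ne_zero.2 ht) ?_ d
    rw [← h]
    refine Finset.sum_congr rfl fun d _ => ?_
    rw [neg_mul, mul_comm]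
  obtain ⟨g, hg⟩ : ∃ g : S.G, ¬ ∀ b d,
      S.sgn (g⁻¹ • S.C.e (b, d)) = S.sgn (g⁻¹ • S.C.e (b, 0)) := by
    by_contra hc
    push Not at hc
    let O : Set α := {x | S.sgn x = 1}
    have hblock : MulAction.IsBlock S.G O := by
      rw [MulAction.isBlock_iff_smul_eq_or_disjoint]
      intro g
      have hsum : ∑ x, S.sgn (g⁻¹ • x) = 0 := by
        rw [Fintype.sum_equiv (MulAction.toPerm g⁻¹) (fun x => S.sgn (g⁻¹ • x)) S.sgn (fun x => rfl), ← S.C.e.sum_comp,
          Fintype.sum_prod_type, Fin.sum_univ_two]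
        simp [S.sgn_apply]
      rw [← S.C.e.sum_comp, Fintype.sum_prod_type, Fin.sum_univ_two,
        Finset.sum_congr rfl (fun d _ => hc g 0 d), Finset.sum_congr rfl (fun d _ => hc g 1 d),
        Finset.sum_const, Finset.sum_const, ← nsmul_add, smul_eq_zero] at hsum
      have h01 := hsum.resolve_left (by simp [hp.out.ne_zero])
      have hmem : ∀ x, x ∈ g • O ↔ S.sgn (g⁻¹ • x) = 1 := fun x =>
        Set.mem_smul_set_iff_inv_smul_mem
      have hval : ∀ x, S.sgn x = 1 ∨ S.sgn x = -1 := fun x => by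
        by_cases hb : (S.C.e.symm x).1 = 0 <;> simp [Setup.sgn, hb]
      rcases hval (g⁻¹ • S.C.e (0, 0)) with h0 | h0
      · left
        ext x
        obtain ⟨⟨b, d⟩, rfl⟩ := S.C.e.surjective x
        rw [hmem, hc g b d]
        show _ ↔ S.sgn _ = 1
        rw [S.sgn_apply]
        fin_cases b
        · simp [h0]
        · have h1 : S.sgn (g⁻¹ • S.C.e (1, 0)) = -1 := by rw [h0] at h01; linear_combination h01
          simp [h1]
      · right
        rw [Set.disjoint_left]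
        intro x hx hxO
        obtain ⟨⟨b, d⟩, rfl⟩ := S.C.e.surjective x
        rw [hmem, hc g b d] at hx
        have hxO' : S.sgn (S.C.e (b, d)) = 1 := hxO
        rw [S.sgn_apply] at hxO'
        fin_cases b
        · exact absurd (h0.symm.trans hx) (by norm_num)
        · exact absurd hxO' (by norm_num)
    rcases S.prim.isTrivialBlock_of_isBlock hblock with h | h
    · have := h (show S.C.e (0, 0) ∈ O by simp [O, S.sgn_apply])
        (show S.C.e (0, 1) ∈ O by simp [O, S.sgn_apply])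
      simp at this
    · have h1 : S.C.e (1, 0) ∈ O := h ▸ Set.mem_univ _
      have h2 : S.sgn (S.C.e (1, 0)) = 1 := h1
      rw [S.sgn_apply] at h2
      norm_num at h2
  refine ⟨fun t b => S.C.fv (fun x => (S.sgn (g⁻¹ • x) : ℂ)) t b, ?_, ?_, ?_⟩
  · intro t b
    simp only [Coords.fv, map_sum, map_mul, conj_psi, map_ratCast]
    refine Finset.sum_congr rfl fun d _ => ?_
    rw [neg_mul, neg_neg]
  · intro t ht
    push Not at hg
    obtain ⟨b, d, hbd⟩ := hg
    have hne : S.C.fv (fun x => (S.sgn (g⁻¹ • x) : ℂ)) t b ≠ 0 := fun h => hbd (hconst g b t ht h d)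
    have hneg : ∀ c, S.C.fv (fun x => (S.sgn (g⁻¹ • x) : ℂ)) (-t) c =
        conj (S.C.fv (fun x => (S.sgn (g⁻¹ • x) : ℂ)) t c) := by
      intro c
      simp only [Coords.fv, map_sum, map_mul, conj_psi, map_ratCast]
      refine Finset.sum_congr rfl fun d _ => ?_
      rw [neg_mul, neg_neg]
    simp only [hneg, Complex.mul_conj]
    rw [← Complex.ofReal_add, Complex.ofReal_ne_zero]
    have h0 := Complex.normSq_nonneg (S.C.fv (fun x => (S.sgn (g⁻¹ • x) : ℂ)) t 0)
    have h1 := Complex.normSq_nonneg (S.C.fv (fun x => (S.sgn (g⁻¹ • x) : ℂ)) t 1)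
    have hb := Complex.normSq_pos.2 hne
    intro h
    fin_cases b <;> simp only [Fin.zero_eta, Fin.mk_one] at hb <;> linarith
  · intro X hX t b
    have h := S.C.fv_mulVec hX.cinv (fun x => (S.sgn (g⁻¹ • x) : ℂ)) t b
    rw [Fin.sum_univ_two] at h
    rw [← h]
    simp only [S.eigen_translate hX, Coords.fv, Finset.mul_sum]
    exact Finset.sum_congr rfl fun d _ => by ring

/-- The eigenvector data. -/
structure Frame2 (S : Setup p α) where
  u : ZMod p → Fin 2 → ℂ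
  nz : ∀ t, t ≠ 0 → u t 0 * u (-t) 0 + u t 1 * u (-t) 1 ≠ 0
  eig : ∀ X, S.GInv X → ∀ t b,
    S.C.ft X t b 0 * u t 0 + S.C.ft X t b 1 * u t 1 = S.bet X * u t b

theorem Setup.exists_frame : Nonempty (Frame2 S) := by
  obtain ⟨u, -, h2, h3⟩ := S.exists_vec
  exact ⟨⟨u, h2, h3⟩⟩

variable {S} (F : Frame2 S)

theorem Frame2.eig' (hX : S.GInv X) (t : ZMod p) (b : Fin 2) :
    S.C.ft X t 0 b * F.u (-t) 0 + S.C.ft X t 1 b * F.u (-t) 1 = S.bet X * F.u (-t) b := by
  have h := F.eig _ hX.swap (-t) b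
  rwa [S.ft_swap hX, S.ft_swap hX, neg_neg, S.bet_swap hX] at h

theorem Frame2.eig_w (hX : S.GInv X) (t : ZMod p) :
    -S.C.ft X t 0 0 * F.u (-t) 1 + S.C.ft X t 0 1 * F.u (-t) 0 = -(S.alp X t) * F.u (-t) 1 ∧
    -S.C.ft X t 1 0 * F.u (-t) 1 + S.C.ft X t 1 1 * F.u (-t) 0 = S.alp X t * F.u (-t) 0 := by
  constructor
  · rw [Setup.alp]; linear_combination F.eig' hX t 1
  · rw [Setup.alp]; linear_combination -F.eig' hX t 0

theorem Frame2.diag (hX : S.GInv X) (t : ZMod p) :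
    S.C.ft X t 0 0 * (F.u t 0 * F.u (-t) 0 + F.u t 1 * F.u (-t) 1) =
      S.bet X * (F.u t 0 * F.u (-t) 0) + S.alp X t * (F.u t 1 * F.u (-t) 1) ∧
    S.C.ft X t 1 1 * (F.u t 0 * F.u (-t) 0 + F.u t 1 * F.u (-t) 1) =
      S.bet X * (F.u t 1 * F.u (-t) 1) + S.alp X t * (F.u t 0 * F.u (-t) 0) := by
  obtain ⟨h1, h2⟩ := F.eig_w hX t
  constructor
  · linear_combination F.u (-t) 0 * F.eig X hX t 0 - F.u t 1 * h1
  · linear_combination F.u (-t) 1 * F.eig X hX t 1 + F.u t 0 * h2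

include F in
theorem Frame2.alp_mul (hX : S.GInv X) (hY : S.GInv Y) {t : ZMod p} (ht : t ≠ 0) :
    S.alp (fun u v => ∑ z, X u z * Y z v) t = S.alp X t * S.alp Y t ∧
      S.bet (fun u v => ∑ z, X u z * Y z v) = S.bet X * S.bet Y := by
  have hZ := hX.mul hY
  set Z := fun u v => ∑ z, X u z * Y z v
  have hm : ∀ b b', S.C.ft Z t b b' = S.C.ft X t b 0 * S.C.ft Y t 0 b' + S.C.ft X t b 1 * S.C.ft Y t 1 b' :=
    fun b b' => by rw [S.C.ft_mul hX.cinv hY.cinv, Fin.sum_univ_two]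
  obtain ⟨x1, x2⟩ := F.eig_w hX t
  obtain ⟨y1, y2⟩ := F.eig_w hY t
  obtain ⟨z1, z2⟩ := F.eig_w hZ t
  have hu : F.u (-t) 0 ≠ 0 ∨ F.u (-t) 1 ≠ 0 := by
    by_contra hc; push Not at hc; exact F.nz t ht (by simp [hc])
  have hu' : F.u t 0 ≠ 0 ∨ F.u t 1 ≠ 0 := by
    by_contra hc; push Not at hc; exact F.nz t ht (by simp [hc])
  rw [hm, hm] at z1 z2
  constructor
  · rcases hu with h | h
    · refine mul_right_cancel₀ h ?_
      linear_combination -z2 + S.C.ft X t 1 0 * y1 + S.C.ft X t 1 1 * y2 + S.alp Y t * x2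
    · refine mul_right_cancel₀ h ?_
      linear_combination z1 - S.C.ft X t 0 0 * y1 - S.C.ft X t 0 1 * y2 - S.alp Y t * x1
  · have e := F.eig Z hZ t
    have e0 := e 0
    have e1 := e 1
    rw [hm, hm] at e0 e1
    rcases hu' with h | h
    · refine mul_right_cancel₀ h ?_
      linear_combination -e0 + S.C.ft X t 0 0 * F.eig Y hY t 0 + S.C.ft X t 0 1 * F.eig Y hY t 1 +
        S.bet Y * F.eig X hX t 0
    · refine mul_right_cancel₀ h ?_
      linear_combination -e1 + S.C.ft X t 1 0 * F.eig Y hY t 0 + S.C.ft X t 1 1 * F.eig Y hY t 1 +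
        S.bet Y * F.eig X hX t 1

theorem Setup.alp_sub_smul (c : ℂ) (t : ZMod p) :
    S.alp (fun u v => X u v - c * Y u v) t = S.alp X t - c * S.alp Y t ∧
      S.bet (fun u v => X u v - c * Y u v) = S.bet X - c * S.bet Y := by
  have h : ∀ (s : ZMod p) b b', S.C.ft (fun u v => X u v - c * Y u v) s b b' =
      S.C.ft X s b b' - c * S.C.ft Y s b b' := fun s b b' => by
    simp only [Coords.ft, Finset.mul_sum, ← Finset.sum_sub_distrib]
    exact Finset.sum_congr rfl fun d _ => by ring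
  simp only [Setup.alp, Setup.bet, h]
  constructor <;> ring

/-- The sum of the two diagonal functions. -/
noncomputable def Setup.cfun (S : Setup p α) (X : α → α → ℂ) (d : ZMod p) : ℂ :=
  X (S.C.e (0, 0)) (S.C.e (0, d)) + X (S.C.e (1, 0)) (S.C.e (1, d))

theorem Setup.trace_eq (X : α → α → ℂ) (t : ZMod p) :
    S.C.ft X t 0 0 + S.C.ft X t 1 1 = ∑ d : ZMod p, ψ (t * d) * S.cfun X d := by
  simp only [Coords.ft, Setup.cfun, mul_add, Finset.sum_add_distrib]

theorem Setup.cfun_sum (hX : S.GInv X) : ∑ d, S.cfun X d = S.rowSum X + S.bet X := by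
  have h := Setup.trace_eq (S := S) X 0
  simp only [zero_mul, AddChar.map_zero_eq_one, one_mul] at h
  obtain ⟨h1, -, h3⟩ := S.ft_zero_sum hX
  rw [← h, h1, Setup.bet, ← h3]; ring

theorem Setup.rowSum_mul (hY : S.GInv Y) :
    S.rowSum (fun u v => ∑ z, X u z * Y z v) = S.rowSum X * S.rowSum Y := by
  rw [Setup.rowSum, Finset.sum_comm]
  simp only [← Finset.mul_sum, S.rowSum_eq hY, ← Finset.sum_mul]
  rfl

include F in
/-- The orthogonality identity. -/
theorem Frame2.identity (hX : S.GInv X) (hY : S.GInv Y) :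
    ∑ z, X (S.C.e (0, 0)) z * Y (S.C.e (0, 0)) z + ∑ z, X (S.C.e (1, 0)) z * Y (S.C.e (1, 0)) z =
      2 * S.bet X * S.bet Y + ∑ d, S.cfun X d * S.cfun Y d - S.bet Y * S.cfun X 0
        - S.bet X * S.cfun Y 0 := by
  have hY' := hY.swap
  have hZ := hX.mul hY'
  set Z := fun u v => ∑ z, X u z * Y v z with hZdef
  have hp0 : (p : ℂ) ≠ 0 := Nat.cast_ne_zero.2 hp.out.ne_zero
  have hlhs : ∑ t : ZMod p, (S.C.ft Z t 0 0 + S.C.ft Z t 1 1) =
      (p : ℂ) * (∑ z, X (S.C.e (0, 0)) z * Y (S.C.e (0, 0)) z +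
        ∑ z, X (S.C.e (1, 0)) z * Y (S.C.e (1, 0)) z) := by
    simp only [S.trace_eq]
    rw [Finset.sum_comm]
    simp only [← Finset.sum_mul, sum_psi]
    simp [Setup.cfun, Z]
  have hA : ∀ t : ZMod p, t ≠ 0 → S.C.ft Z t 0 0 + S.C.ft Z t 1 1 =
      S.bet X * S.bet Y + S.alp X t * S.alp Y (-t) := by
    intro t ht
    have h : S.C.ft Z t 0 0 + S.C.ft Z t 1 1 = S.alp Z t + S.bet Z := by rw [Setup.alp]; ring
    rw [h, (F.alp_mul hX hY' ht).1, (F.alp_mul hX hY' ht).2, S.bet_swap hY, S.alp_swap hY]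
    ring
  have h0 : S.C.ft Z 0 0 0 + S.C.ft Z 0 1 1 =
      S.rowSum X * S.rowSum Y + S.bet X * S.bet Y := by
    have hrs : S.rowSum (fun u v => Y v u) = S.rowSum Y := S.colSum_eq hY _
    rw [S.trace_eq]
    simp only [zero_mul, AddChar.map_zero_eq_one, one_mul]
    rw [S.cfun_sum hZ, S.rowSum_mul hY', (F.alp_mul hX hY' one_ne_zero).2, hrs, S.bet_swap hY]
  have hfull : ∑ t : ZMod p, (S.bet X * S.bet Y + S.alp X t * S.alp Y (-t)) =
      (p : ℂ) * (2 * S.bet X * S.bet Y + ∑ d, S.cfun X d * S.cfun Y d - S.bet Y * S.cfun X 0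
        - S.bet X * S.cfun Y 0) := by
    have e1 : ∑ t : ZMod p, ∑ d, ψ (t * d) * S.cfun X d = p * S.cfun X 0 := by
      rw [Finset.sum_comm]
      simp [← Finset.sum_mul, sum_psi]
    have e2 : ∑ t : ZMod p, ∑ d, ψ (-t * d) * S.cfun Y d = p * S.cfun Y 0 := by
      rw [Finset.sum_comm]
      have : ∀ d : ZMod p, ∑ t : ZMod p, (ψ (-(t * d)) : ℂ) = if d = 0 then (p : ℂ) else 0 := fun d => by
        rw [← sum_psi d]
        exact Fintype.sum_equiv (Equiv.neg _) _ _ fun t => by rw [Equiv.neg_apply, neg_mul]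
      simp [← Finset.sum_mul, this]
    have e3 : ∑ t : ZMod p, (∑ d, ψ (t * d) * S.cfun X d) * (∑ d, ψ (-t * d) * S.cfun Y d) =
        p * ∑ d, S.cfun X d * S.cfun Y d := by
      simp only [Finset.sum_mul, Finset.mul_sum]
      rw [Finset.sum_comm]
      refine Finset.sum_congr rfl fun d _ => ?_
      rw [Finset.sum_comm]
      have : ∀ d' t : ZMod p, ψ (t * d') * S.cfun X d' * (ψ (-t * d) * S.cfun Y d) =
          ψ (t * (d' - d)) * (S.cfun X d' * S.cfun Y d) := fun d' t => by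
        rw [show t * (d' - d) = t * d' + -t * d by ring, AddChar.map_add_eq_mul]; ring
      simp only [this, ← Finset.sum_mul, sum_psi, sub_eq_zero]
      simp [Finset.sum_ite_eq']
    have e : ∀ t : ZMod p, S.bet X * S.bet Y + S.alp X t * S.alp Y (-t) =
        (∑ d, ψ (t * d) * S.cfun X d) * (∑ d, ψ (-t * d) * S.cfun Y d)
          - S.bet Y * (∑ d, ψ (t * d) * S.cfun X d) - S.bet X * (∑ d, ψ (-t * d) * S.cfun Y d)
          + 2 * S.bet X * S.bet Y := fun t => by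
      rw [Setup.alp, Setup.alp, S.trace_eq, S.trace_eq]; ring
    simp only [e, Finset.sum_add_distrib, Finset.sum_sub_distrib, ← Finset.mul_sum, e1, e2, e3,
      Finset.sum_const, Finset.card_univ, ZMod.card, nsmul_eq_mul]
    ring
  refine mul_left_cancel₀ hp0 ?_
  rw [← hlhs, ← hfull, ← Finset.add_sum_erase _ _ (Finset.mem_univ (0 : ZMod p)),
    ← Finset.add_sum_erase _ _ (Finset.mem_univ (0 : ZMod p)), h0]
  congr 1
  · rw [neg_zero, Setup.alp, Setup.alp]
    obtain ⟨a1, -, a3⟩ := S.ft_zero_sum hX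
    obtain ⟨b1, -, b3⟩ := S.ft_zero_sum hY
    simp only [a1, b1, Setup.bet, ← a3, ← b3]
    ring
  · exact Finset.sum_congr rfl fun t ht => hA t (Finset.mem_erase.1 ht).1

end CfsgLib.Perm.TwoP
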