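import Mathlib
import Cfsg.Agent.Lib.Perm.TwoP.Algebra

/-! Wielandt's theorem on primitive groups of degree twice a prime. -/

set_option autoImplicit false
set_option linter.style.haveILetI false

namespace CfsgLib.Perm.TwoP

open Finset
open scoped Pointwise

variable {p : ℕ} [hp : Fact p.Prime] {α : Type*} [Fintype α] [DecidableEq α]

local notation "ψ" => ZMod.stdAddChar (N := p)

/-- The combinatorial data of the suborbits. -/
structure Subdata (S : Setup p α) (ι : Type*) [Fintype ι] where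
  A : ι → α → α → ℂ
  k : ι → ℕ
  cn : ι → ZMod p → ℕ
  inv : ∀ i, S.GInv (A i)
  cn_eq : ∀ i d, S.cfun (A i) d = cn i d
  cn_zero : ∀ i, cn i 0 = 0
  cn_sum : ∀ d, d ≠ 0 → ∑ i, cn i d = 2
  k_pos : ∀ i, 1 ≤ k i
  k_eq : ∀ i, S.rowSum (A i) = k i
  k_sum : ∑ i, k i + 1 = 2 * p
  orth : ∀ i j, i ≠ j → ∀ u z, A i u z * A j u z = 0
  idem : ∀ i u z, A i u z * A i u z = A i u z
  decomp : ∀ X, S.GInv X → ∃ (x₀ : ℂ) (x : ι → ℂ), ∀ u v,
    X u v = (if u = v then x₀ else 0) + ∑ i, x i * A i u v
  diag : ∀ i b d, A i (S.C.e (b, 0)) (S.C.e (b, d)) = 0 ∨ A i (S.C.e (b, 0)) (S.C.e (b, d)) = 1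

variable {S : Setup p α} {ι : Type*} [Fintype ι] (D : Subdata S ι)

/-- The eigenvalue as an integer. -/
def Subdata.bi (i : ι) : ℤ := (∑ d, (D.cn i d : ℤ)) - D.k i

theorem Subdata.bet_eq (i : ι) : S.bet (D.A i) = (D.bi i : ℂ) := by
  have h := S.cfun_sum (D.inv i)
  simp only [D.cn_eq, D.k_eq] at h
  simp [Subdata.bi, h]

theorem Subdata.cn_le (i : ι) (d : ZMod p) : D.cn i d ≤ 2 := by
  by_cases hd : d = 0
  · rw [hd, D.cn_zero]; omega
  · rw [← D.cn_sum d hd]; exact Finset.single_le_sum (f := fun j => D.cn j d) (fun j _ => Nat.zero_le _) (Finset.mem_univ i)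

variable [DecidableEq ι]

theorem Subdata.quad (i j : ι) :
    (∑ d, (D.cn i d : ℤ) * D.cn j d) + 2 * D.bi i * D.bi j = if i = j then 2 * (D.k i : ℤ) else 0 := by
  obtain ⟨F⟩ := S.exists_frame
  have h := F.identity (D.inv i) (D.inv j)
  simp only [D.cn_eq, D.cn_zero, D.bet_eq, Nat.cast_zero, mul_zero, sub_zero] at h
  by_cases hij : i = j
  · subst hij
    simp only [D.idem, S.rowSum_eq (D.inv i), D.k_eq] at h
    rw [if_pos rfl]
    have h' : (((∑ d, (D.cn i d : ℤ) * D.cn i d) + 2 * D.bi i * D.bi i : ℤ) : ℂ) =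
        ((2 * (D.k i : ℤ) : ℤ) : ℂ) := by push_cast; linear_combination -h
    exact_mod_cast h'
  · simp only [D.orth i j hij, Finset.sum_const_zero, add_zero] at h
    rw [if_neg hij]
    have h' : (((∑ d, (D.cn i d : ℤ) * D.cn j d) + 2 * D.bi i * D.bi j : ℤ) : ℂ) = ((0 : ℤ) : ℂ) := by
      push_cast; linear_combination -h
    exact_mod_cast h'

theorem Subdata.bi_mul_nonpos {i j : ι} (h : i ≠ j) : D.bi i * D.bi j ≤ 0 := by
  have := D.quad i j
  rw [if_neg h] at this
  have h2 : (0 : ℤ) ≤ ∑ d, (D.cn i d : ℤ) * D.cn j d := Finset.sum_nonneg fun d _ => by positivity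
  nlinarith

theorem Subdata.deficit (i : ι) :
    ∑ d, (D.cn i d : ℤ) * (2 - D.cn i d) = 2 * D.bi i * (1 + D.bi i) := by
  have h := D.quad i i
  rw [if_pos rfl] at h
  simp only [mul_sub, Finset.sum_sub_distrib, ← Finset.sum_mul]
  have : (∑ d, (D.cn i d : ℤ)) = D.k i + D.bi i := by simp [Subdata.bi]
  rw [this]
  linarith

theorem Subdata.even_of_deficit {i : ι} (h : D.bi i = 0 ∨ D.bi i = -1) (d : ZMod p) :
    D.cn i d = 0 ∨ D.cn i d = 2 := by
  have hsum : ∑ d, (D.cn i d : ℤ) * (2 - D.cn i d) = 0 := by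
    rw [D.deficit]; rcases h with h | h <;> rw [h] <;> ring
  have h0 := (Finset.sum_eq_zero_iff_of_nonneg (fun d _ => ?_)).1 hsum d (Finset.mem_univ d)
  · rcases mul_eq_zero.1 h0 with h1 | h1
    · left; omega
    · right; omega
  · have := D.cn_le i d
    exact mul_nonneg (by positivity) (by omega)

theorem Subdata.bi_sum : ∑ i, D.bi i = -1 := by
  have hp1 : ∑ d : ZMod p, ∑ i, (D.cn i d : ℤ) = 2 * ((p : ℤ) - 1) := by
    rw [← Finset.sum_erase_add _ _ (Finset.mem_univ (0 : ZMod p))]
    simp only [D.cn_zero, Nat.cast_zero, Finset.sum_const_zero, add_zero]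
    rw [Finset.sum_congr rfl (g := fun _ => (2 : ℤ)) fun d hd => by
      exact_mod_cast D.cn_sum d (Finset.mem_erase.1 hd).1, Finset.sum_const,
      Finset.card_erase_of_mem (Finset.mem_univ _), Finset.card_univ, ZMod.card, nsmul_eq_mul,
      Nat.cast_sub hp.out.one_le, mul_comm]
    rfl
  have hk : (∑ i, (D.k i : ℤ)) + 1 = 2 * p := by exact_mod_cast D.k_sum
  simp only [Subdata.bi, Finset.sum_sub_distrib]
  rw [Finset.sum_comm] at hp1
  linarith

include D in
/-- A single orbit: the case of double transitivity. -/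
theorem Subdata.exists_ne_alp (F : Frame2 S) (h1 : 2 ≤ Fintype.card ι) {t : ZMod p} (ht : t ≠ 0) :
    ∃ i, S.alp (D.A i) t ≠ S.bet (D.A i) := by
  by_contra hc
  push Not at hc
  have hcn : ∀ i d, d ≠ 0 → (D.cn i d : ℚ) = -2 * (D.bi i : ℚ) := by
    intro i d hd
    have h := hc i
    rw [Setup.alp, Setup.trace_eq] at h
    simp only [D.cn_eq, D.bet_eq] at h
    have := const_of_sum_eq_zero (fun d => if d = 0 then -2 * (D.bi i : ℚ) else (D.cn i d : ℚ)) ht ?_ d
    · simpa [hd] using this
    · have e : ∀ d : ZMod p, (((if d = 0 then -2 * (D.bi i : ℚ) else (D.cn i d : ℚ)) : ℚ) : ℂ) * ψ (t * d) =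
          ψ (t * d) * (D.cn i d : ℂ) - (if d = 0 then 2 * (D.bi i : ℂ) else 0) := by
        intro d
        split_ifs with hd
        · subst hd; simp [D.cn_zero]
        · push_cast; ring
      simp only [e, Finset.sum_sub_distrib, Finset.sum_ite_eq', Finset.mem_univ, if_true]
      linear_combination h
  have hne : (1 : ZMod p) ≠ 0 := one_ne_zero
  have hbi : ∀ i, D.bi i = 0 ∨ D.bi i = -1 := by
    intro i
    have h := hcn i 1 hne
    have hle := D.cn_le i 1
    have h' : (D.cn i 1 : ℤ) = -2 * D.bi i := by exact_mod_cast h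
    omega
  obtain ⟨i, hi⟩ : ∃ i, D.bi i = -1 := by
    by_contra hn
    push Not at hn
    have := D.bi_sum
    rw [Finset.sum_eq_zero fun i _ => (hbi i).resolve_right (hn i)] at this
    omega
  have hk : D.k i = 2 * p - 1 := by
    have hsum : (∑ d, (D.cn i d : ℤ)) = 2 * ((p : ℤ) - 1) := by
      rw [← Finset.sum_erase_add _ _ (Finset.mem_univ (0 : ZMod p)), D.cn_zero, Nat.cast_zero, add_zero,
        Finset.sum_congr rfl (g := fun _ => (2 : ℤ)) fun d hd => by
          have := hcn i d (Finset.mem_erase.1 hd).1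
          rw [hi] at this
          push_cast at this
          norm_num at this
          exact_mod_cast this, Finset.sum_const,
        Finset.card_erase_of_mem (Finset.mem_univ _), Finset.card_univ, ZMod.card, nsmul_eq_mul,
        Nat.cast_sub hp.out.one_le, mul_comm]
      rfl
    have hb : D.bi i = (∑ d, (D.cn i d : ℤ)) - D.k i := rfl
    omega
  obtain ⟨j, hj⟩ := Fintype.exists_ne_of_one_lt_card h1 i
  have h2 := Finset.add_le_sum (fun l _ => Nat.zero_le (D.k l)) (Finset.mem_univ j) (Finset.mem_univ i) hj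
  have := D.k_pos j
  have := D.k_sum
  omega

include D in
/-- An element killing the components away from the principal one. -/
theorem Subdata.exists_sep (h1 : 2 ≤ Fintype.card ι) (T : Finset (ZMod p)) (hT : (0 : ZMod p) ∉ T) :
    ∃ X, S.GInv X ∧ S.bet X ≠ 0 ∧ ∀ t ∈ T, S.alp X t = 0 := by
  obtain ⟨F⟩ := S.exists_frame
  induction T using Finset.induction_on with
  | empty =>
    refine ⟨fun u v => if u = v then 1 else 0, fun g u v => by simp, ?_, by simp⟩
    simp [Setup.bet, Coords.ft]
  | @insert t T htT ih =>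
    rw [Finset.mem_insert, not_or] at hT
    obtain ⟨X, hX, hb, hT'⟩ := ih hT.2
    obtain ⟨i, hi⟩ := D.exists_ne_alp F h1 (Ne.symm hT.1)
    refine ⟨fun u v => (∑ z, X u z * D.A i z v) - S.alp (D.A i) t * X u v,
      (hX.mul (D.inv i)).sub_smul hX _, ?_, fun s hs => ?_⟩
    · rw [(S.alp_sub_smul (X := fun u v => ∑ z, X u z * D.A i z v) (Y := X) _ t).2,
        (F.alp_mul hX (D.inv i) (Ne.symm hT.1)).2,
        show S.bet X * S.bet (D.A i) - S.alp (D.A i) t * S.bet X =
          S.bet X * (S.bet (D.A i) - S.alp (D.A i) t) by ring]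
      exact mul_ne_zero hb (sub_ne_zero.2 hi.symm)
    · have hs0 : s ≠ 0 := by
        rcases Finset.mem_insert.1 hs with rfl | h
        · exact Ne.symm hT.1
        · exact fun e => hT.2 (e ▸ h)
      rw [(S.alp_sub_smul (X := fun u v => ∑ z, X u z * D.A i z v) (Y := X) _ s).1,
        (F.alp_mul hX (D.inv i) hs0).1]
      rcases Finset.mem_insert.1 hs with rfl | h
      · ring
      · rw [hT' s h]; ring

include D in
/-- The linear condition from the separating element. -/
theorem Subdata.exists_relation (h1 : 2 ≤ Fintype.card ι) :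
    ∃ (x₀ : ℂ) (x : ι → ℂ), x₀ + ∑ i, x i * D.bi i ≠ 0 ∧
      ∀ d : ZMod p, d ≠ 0 → ∑ i, x i * D.cn i d = x₀ - ∑ i, x i * D.bi i := by
  obtain ⟨X, hX, hb, hT⟩ := D.exists_sep h1 (Finset.univ.erase 0) (by simp)
  obtain ⟨x₀, x, hx⟩ := D.decomp X hX
  have hc : ∀ d, S.cfun X d = (if d = 0 then 2 * x₀ else 0) + ∑ i, x i * D.cn i d := by
    intro d
    simp only [← D.cn_eq, Setup.cfun, hx, mul_add, Finset.sum_add_distrib,
      EmbeddingLike.apply_eq_iff_eq, Prod.mk.injEq, true_and, eq_comm (a := (0 : ZMod p))]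
    split_ifs <;> ring
  have hr : S.rowSum X = x₀ + ∑ i, x i * D.k i := by
    simp only [Setup.rowSum, hx, Finset.sum_add_distrib]
    rw [Finset.sum_comm]
    simp only [← D.k_eq, Setup.rowSum, ← Finset.mul_sum, Finset.sum_ite_eq, Finset.mem_univ, if_true]
  have hbet : S.bet X = x₀ + ∑ i, x i * D.bi i := by
    have h := S.cfun_sum hX
    simp only [hc, Finset.sum_add_distrib, Finset.sum_ite_eq', Finset.mem_univ, if_true] at h
    rw [Finset.sum_comm, hr] at h
    simp only [Subdata.bi, Int.cast_sub, Int.cast_sum, Int.cast_natCast, mul_sub, Finset.mul_sum,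
      Finset.sum_sub_distrib] at h ⊢
    linear_combination -h
  refine ⟨x₀, x, hbet ▸ hb, fun d hd => ?_⟩
  -- the function vanishing at all non-trivial characters is constant
  set f : ZMod p → ℂ := fun d => S.cfun X d - (if d = 0 then S.bet X else 0) with hf
  have hft : ∀ t, t ≠ 0 → ∑ d, ψ (t * d) * f d = 0 := by
    intro t ht
    have := hT t (by simp [ht])
    rw [Setup.alp, Setup.trace_eq] at this
    simp only [hf, mul_sub, Finset.sum_sub_distrib, mul_ite, mul_zero, Finset.sum_ite_eq',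
      Finset.mem_univ, if_true, AddChar.map_zero_eq_one, one_mul, this]
  have hinv : ∀ d, (p : ℂ) * f d = ∑ d, f d := by
    intro d
    have h := Finset.sum_comm (s := Finset.univ) (t := Finset.univ)
      (f := fun (t : ZMod p) (d' : ZMod p) => ψ (t * (d' - d)) * f d')
    simp only [← Finset.sum_mul, sum_psi, sub_eq_zero, ite_mul, zero_mul, Finset.sum_ite_eq',
      Finset.mem_univ, if_true] at h
    rw [← h, ← Finset.sum_erase_add _ _ (Finset.mem_univ (0 : ZMod p)),
      Finset.sum_eq_zero (fun t ht => ?_), zero_add]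
    · exact Finset.sum_congr rfl fun d' _ => by simp
    · rw [Finset.sum_congr rfl (g := fun d' => ψ (-(t * d)) * (ψ (t * d') * f d')) fun d' _ => by
          rw [← mul_assoc, ← AddChar.map_add_eq_mul]; congr 2; ring,
        ← Finset.mul_sum, hft t (Finset.mem_erase.1 ht).1, mul_zero]
  have h0 := mul_left_cancel₀ (Nat.cast_ne_zero.2 hp.out.ne_zero) ((hinv d).trans (hinv 0).symm)
  simp only [hf, hc, if_neg hd, if_pos, hbet, zero_add, sub_zero, D.cn_zero, Nat.cast_zero, mul_zero,
    Finset.sum_const_zero, add_zero] at h0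
  rw [h0]; ring

omit [DecidableEq ι] in
theorem Subdata.not_equal_coeff {x₀ : ℂ} {x : ι → ℂ} {y : ℂ} (hx : ∀ i, x i = y)
    (hne : x₀ + ∑ i, x i * D.bi i ≠ 0)
    (hrel : ∀ d : ZMod p, d ≠ 0 → ∑ i, x i * D.cn i d = x₀ - ∑ i, x i * D.bi i)
    (hbs : ∑ i, D.bi i = -1) : False := by
  have h := hrel 1 one_ne_zero
  simp only [hx, ← Finset.mul_sum] at h hne
  rw [show (∑ i, (D.cn i 1 : ℂ)) = 2 by exact_mod_cast D.cn_sum 1 one_ne_zero,
    show (∑ i, (D.bi i : ℂ)) = -1 by exact_mod_cast hbs] at h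
  rw [show (∑ i, (D.bi i : ℂ)) = -1 by exact_mod_cast hbs] at hne
  exact hne (by linear_combination -h)

/-- A suborbit with zero eigenvalue forces both cycles to look alike. -/
theorem Subdata.balanced {z : ι} (hz : D.bi z = 0) (i : ι) (d : ZMod p) : Even (D.cn i d) := by
  obtain ⟨F⟩ := S.exists_frame
  have hev := D.even_of_deficit (Or.inl hz)
  have hsame : ∀ d, D.A z (S.C.e (0, 0)) (S.C.e (0, d)) = D.A z (S.C.e (1, 0)) (S.C.e (1, d)) := by
    intro d
    have h := D.cn_eq z d
    rw [Setup.cfun] at h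
    rcases hev d with e | e <;> rw [e] at h <;>
      rcases D.diag z 0 d with e0 | e0 <;> rcases D.diag z 1 d with e1 | e1 <;>
      first
        | (rw [e0, e1]; done)
        | (exfalso; rw [e0, e1] at h; norm_num at h)
  have halp : ∀ t, t ≠ 0 → S.alp (D.A z) t ≠ 0 := by
    intro t ht h
    rw [Setup.alp, Setup.trace_eq, D.bet_eq, hz, Int.cast_zero, sub_zero] at h
    simp only [D.cn_eq] at h
    have hc := const_of_sum_eq_zero (fun d => (D.cn z d : ℚ)) ht
      (by rw [← h]; exact Finset.sum_congr rfl fun d _ => by push_cast; ring)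
    have hb : D.bi z = (∑ d, (D.cn z d : ℤ)) - D.k z := rfl
    have hall : ∀ d, D.cn z d = 0 := fun d => by
      have := hc d
      simp only [D.cn_zero, Nat.cast_zero, Nat.cast_eq_zero] at this
      exact this
    simp [hall] at hb
    have := D.k_pos z
    omega
  have hft : ∀ t, S.C.ft (D.A i) t 0 0 = S.C.ft (D.A i) t 1 1 := by
    intro t
    by_cases ht : t = 0
    · subst ht; exact (S.ft_zero_sum (D.inv i)).1.symm
    obtain ⟨a1, a2⟩ := F.diag (D.inv z) t
    have hzz : S.C.ft (D.A z) t 0 0 = S.C.ft (D.A z) t 1 1 := by simp [Coords.ft, hsame]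
    rw [D.bet_eq, hz, Int.cast_zero, zero_mul, zero_add] at a1 a2
    have heq : F.u t 1 * F.u (-t) 1 = F.u t 0 * F.u (-t) 0 := by
      refine mul_left_cancel₀ (halp t ht) ?_
      rw [← a1, ← a2, hzz]
    obtain ⟨b1, b2⟩ := F.diag (D.inv i) t
    refine mul_right_cancel₀ (F.nz t ht) ?_
    rw [b1, b2, heq]
  have h := S.C.ft_injective 0 0 1 1 hft d
  have hc := D.cn_eq i d
  rw [Setup.cfun, ← h] at hc
  rcases D.diag i 0 d with e | e <;> rw [e] at hc
  · have h0 : (D.cn i d : ℂ) = 0 := by rw [← hc]; norm_num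
    rw [show D.cn i d = 0 by exact_mod_cast h0]; exact Even.zero
  · rw [show D.cn i d = 2 by exact_mod_cast hc.symm.trans (by norm_num : (1 : ℂ) + 1 = ((2 : ℕ) : ℂ))]
    exact even_two

include D in
/-- The conclusion on the level of suborbit data. -/
theorem Subdata.classify (hk1 : ∀ i, D.k i = 1 → False) (h1 : 2 ≤ Fintype.card ι) :
    Fintype.card ι = 2 ∧ ∃ a : ℕ, 0 < a ∧ p = 2 * a ^ 2 + 2 * a + 1 ∧
      ∀ i, D.k i = a * (2 * a + 1) ∨ D.k i = (a + 1) * (2 * a + 1) := by
  obtain ⟨x₀, x, hne, hrel⟩ := D.exists_relation h1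
  have hbs := D.bi_sum
  have hC : ∀ i, (∑ d, (D.cn i d : ℤ)) = D.k i + D.bi i := fun i => by simp [Subdata.bi]
  have hpos : ∀ i, (D.bi i = 0 ∨ D.bi i = -1) → ∃ d, d ≠ 0 ∧ D.cn i d = 2 := by
    intro i hi
    by_contra hn
    push Not at hn
    have h0 : ∀ d, D.cn i d = 0 := fun d => by
      by_cases hd : d = 0
      · rw [hd, D.cn_zero]
      · exact (D.even_of_deficit hi d).resolve_right (hn d hd)
    have := hC i
    simp [h0] at this
    have := D.k_pos i
    refine hk1 i ?_
    omega
  -- some eigenvalue is neither 0 nor -1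
  obtain ⟨i, hi⟩ : ∃ i, ¬ (D.bi i = 0 ∨ D.bi i = -1) := by
    by_contra hn
    push Not at hn
    refine D.not_equal_coeff (y := (x₀ - ∑ i, x i * D.bi i) / 2) (fun i => ?_) hne hrel hbs
    obtain ⟨d, hd, h2⟩ := hpos i (hn i)
    have h := hrel d hd
    have hsum := D.cn_sum d hd
    rw [← Finset.add_sum_erase _ _ (Finset.mem_univ i), h2] at hsum
    have hzero : ∀ j ∈ Finset.univ.erase i, D.cn j d = 0 := Finset.sum_eq_zero_iff.1 (by omega)
    rw [← Finset.add_sum_erase _ _ (Finset.mem_univ i),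
      Finset.sum_eq_zero (fun j hj => by rw [hzero j hj, Nat.cast_zero, mul_zero]), add_zero, h2] at h
    rw [← h]; push_cast; ring
  push Not at hi
  have hnz : ∀ z, D.bi z ≠ 0 := by
    intro z hz
    have hb := D.balanced hz i
    have hdef := D.deficit i
    rw [Finset.sum_eq_zero fun d _ => ?_] at hdef
    · rcases mul_eq_zero.1 hdef.symm with h | h
      · exact hi.1 (by omega)
      · exact hi.2 (by omega)
    · have := D.cn_le i d
      obtain ⟨m, hm⟩ := hb d
      have : D.cn i d = 0 ∨ D.cn i d = 2 := by omega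
      rcases this with e | e <;> rw [e] <;> norm_num
  obtain ⟨j, hj⟩ := Fintype.exists_ne_of_one_lt_card h1 i
  have huniq : ∀ l, l = i ∨ l = j := by
    intro l
    by_contra hl
    push Not at hl
    have a1 := D.bi_mul_nonpos hl.1
    have a2 := D.bi_mul_nonpos hl.2
    have a3 := D.bi_mul_nonpos hj
    rcases lt_or_gt_of_ne (hnz i) with b1 | b1 <;> rcases lt_or_gt_of_ne (hnz j) with b2 | b2 <;>
      rcases lt_or_gt_of_ne (hnz l) with b3 | b3 <;> nlinarith
  have hu : (Finset.univ : Finset ι) = {i, j} := by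
    ext l; simpa using huniq l
  have hcard : Fintype.card ι = 2 := by rw [← Finset.card_univ, hu, Finset.card_pair hj.symm]
  refine ⟨hcard, ?_⟩
  rw [hu, Finset.sum_pair hj.symm] at hbs
  have hconst : ∀ d, d ≠ 0 → D.cn i d = D.cn i 1 := by
    intro d hd
    by_cases hxy : x i = x j
    · exact (D.not_equal_coeff (y := x i) (fun l => (huniq l).elim (fun e => e ▸ rfl) fun e => e ▸ hxy.symm)
        hne hrel D.bi_sum).elim
    · have h := (hrel d hd).trans (hrel 1 one_ne_zero).symm
      rw [hu, Finset.sum_pair hj.symm, Finset.sum_pair hj.symm] at h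
      have e1 := D.cn_sum d hd
      have e2 := D.cn_sum 1 one_ne_zero
      rw [hu, Finset.sum_pair hj.symm] at e1 e2
      have e1' : (D.cn i d : ℂ) + D.cn j d = 2 := by exact_mod_cast e1
      have e2' : (D.cn i 1 : ℂ) + D.cn j 1 = 2 := by exact_mod_cast e2
      have h3 : (x i - x j) * ((D.cn i d : ℂ) - D.cn i 1) = 0 := by
        linear_combination h - x j * e1' + x j * e2'
      exact_mod_cast sub_eq_zero.1 ((mul_eq_zero.1 h3).resolve_left (sub_ne_zero.2 hxy))
  have herase : ∀ g : ℕ → ℤ, g 0 = 0 → ∑ d, g (D.cn i d) = ((p : ℤ) - 1) * g (D.cn i 1) := by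
    intro g hg
    rw [← Finset.sum_erase_add _ _ (Finset.mem_univ (0 : ZMod p)), D.cn_zero, hg, add_zero,
      Finset.sum_congr rfl (g := fun _ => g (D.cn i 1)) fun d hd => by
        rw [hconst d (Finset.mem_erase.1 hd).1], Finset.sum_const,
      Finset.card_erase_of_mem (Finset.mem_univ _), Finset.card_univ, ZMod.card, nsmul_eq_mul,
      Nat.cast_sub hp.out.one_le]
    rfl
  have hdef := D.deficit i
  rw [herase (fun n => (n : ℤ) * (2 - n)) (by simp)] at hdef
  have hone : D.cn i 1 = 1 := by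
    have := D.cn_le i 1
    by_contra hne1
    have : D.cn i 1 = 0 ∨ D.cn i 1 = 2 := by omega
    rcases this with e | e <;> rw [e] at hdef <;> norm_num at hdef <;>
    · rcases hdef with h | h
      · exact hi.1 h
      · exact hi.2 (by omega)
  rw [hone] at hdef
  norm_num at hdef
  have hCi : (D.k i : ℤ) + D.bi i = (p : ℤ) - 1 := by
    rw [← hC, herase (fun n => (n : ℤ)) (by simp), hone]; norm_num
  have hksum := D.k_sum
  rw [hu, Finset.sum_pair hj.symm] at hksum
  have hksum' : (D.k i : ℤ) + D.k j + 1 = 2 * p := by exact_mod_cast hksum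
  obtain ⟨a, ha, ha'⟩ : ∃ a : ℕ, 0 < a ∧ ((D.bi i = a ∧ D.bi j = -1 - a) ∨ (D.bi i = -1 - a ∧ D.bi j = a)) := by
    by_cases h : 0 < D.bi i
    · exact ⟨(D.bi i).toNat, by omega, Or.inl ⟨by omega, by omega⟩⟩
    · exact ⟨(-1 - D.bi i).toNat, by omega, Or.inr ⟨by omega, by omega⟩⟩
  refine ⟨a, ha, ?_, fun l => ?_⟩
  · have : (p : ℤ) = 2 * (a : ℤ) ^ 2 + 2 * a + 1 := by
      rcases ha' with ⟨e1, -⟩ | ⟨e1, -⟩ <;> rw [e1] at hdef <;> linarith
    exact_mod_cast this
  · have hki : (D.k i : ℤ) = p - 1 - D.bi i := by linarith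
    have hkj : (D.k j : ℤ) = p - 1 - D.bi j := by linarith
    have hp' : (p : ℤ) = 2 * (a : ℤ) ^ 2 + 2 * a + 1 := by
      rcases ha' with ⟨e1, -⟩ | ⟨e1, -⟩ <;> rw [e1] at hdef <;> linarith
    rcases huniq l with rfl | rfl <;> rcases ha' with ⟨e1, e2⟩ | ⟨e1, e2⟩
    · left; have : (D.k l : ℤ) = a * (2 * a + 1) := by rw [hki, hp', e1]; ring
      exact_mod_cast this
    · right; have : (D.k l : ℤ) = (a + 1) * (2 * a + 1) := by rw [hki, hp', e1]; ring
      exact_mod_cast this
    · right; have : (D.k l : ℤ) = (a + 1) * (2 * a + 1) := by rw [hkj, hp', e2]; ring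
      exact_mod_cast this
    · left; have : (D.k l : ℤ) = a * (2 * a + 1) := by rw [hkj, hp', e2]; ring
      exact_mod_cast this

/-- A point other than `a` is moved by the stabiliser of `a`. -/
theorem exists_moved (S : Setup p α) (hα : Fintype.card α = 2 * p) {a b : α} (hab : b ≠ a) :
    ∃ g ∈ MulAction.stabilizer S.G a, g • b ≠ b := by
  haveI := S.prim.toIsPretransitive
  haveI := S.prim
  haveI : Nontrivial α := ⟨b, a, hab⟩
  by_contra hc
  push Not at hc
  have hcoat : ∀ x : α, IsCoatom (MulAction.stabilizer S.G x) := fun x =>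
    MulAction.IsPreprimitive.isCoatom_stabilizer_of_isPreprimitive (G := S.G) x
  let K := MulAction.stabilizer S.G a
  have hKb : MulAction.stabilizer S.G b = K :=
    ((hcoat a).le_iff.1 (fun g hg => hc g hg)).resolve_left (hcoat b).1
  let B : Set α := {x | MulAction.stabilizer S.G x = K}
  have hblock : MulAction.IsBlock S.G B := by
    rw [MulAction.isBlock_iff_smul_eq_or_disjoint]
    intro g
    by_cases hgK : MulAction.stabilizer S.G (g • a) = K
    · left
      ext x
      rw [Set.mem_smul_set_iff_inv_smul_mem]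
      show MulAction.stabilizer S.G (g⁻¹ • x) = K ↔ MulAction.stabilizer S.G x = K
      rw [MulAction.stabilizer_smul_eq_stabilizer_map_conj] at hgK ⊢
      constructor
      · intro h
        rw [← hgK]
        conv_lhs => rw [show x = g • (g⁻¹ • x) by simp, MulAction.stabilizer_smul_eq_stabilizer_map_conj, MulAction.stabilizer_smul_eq_stabilizer_map_conj]
        rw [h]
      · intro h
        rw [h]
        conv_lhs => rw [← hgK, Subgroup.map_map]
        convert Subgroup.map_id K using 2
        ext y; simp [mul_assoc]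
    · right
      rw [Set.disjoint_left]
      intro x hx hxB
      obtain ⟨y, hy, rfl⟩ := hx
      apply hgK
      have h1 : MulAction.stabilizer S.G y = K := hy
      have h2 : MulAction.stabilizer S.G (g • y) = K := hxB
      rw [MulAction.stabilizer_smul_eq_stabilizer_map_conj, h1] at h2
      rw [MulAction.stabilizer_smul_eq_stabilizer_map_conj]
      exact h2
  have hB : B = Set.univ := by
    rcases S.prim.isTrivialBlock_of_isBlock hblock with h | h
    · exact absurd (h (show b ∈ B from hKb) (show a ∈ B from rfl)) hab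
    · exact h
  have hbot : K = ⊥ := by
    rw [Subgroup.eq_bot_iff_forall]
    intro g hg
    refine Subtype.ext (Equiv.ext fun x => ?_)
    have hx : MulAction.stabilizer S.G x = K := by
      have : x ∈ B := hB ▸ Set.mem_univ x
      exact this
    have : g • x = x := MulAction.mem_stabilizer_iff.1 (hx ▸ hg)
    exact this
  have hcard : Nat.card S.G = 2 * p := by
    rw [← hα, ← Nat.card_eq_fintype_card]
    have := Subgroup.card_mul_index K
    rw [MulAction.index_stabilizer_of_transitive, hbot, Subgroup.card_bot, one_mul] at this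
    exact this.symm
  haveI : Fact (Nat.Prime 2) := ⟨Nat.prime_two⟩
  obtain ⟨g, hg⟩ := exists_prime_orderOf_dvd_card' (G := S.G) 2 (by rw [hcard]; exact dvd_mul_right 2 p)
  have hz : Subgroup.zpowers g = ⊤ := by
    refine (hcoat a).2 _ ?_
    show K < _
    rw [hbot, bot_lt_iff_ne_bot, ne_eq, Subgroup.zpowers_eq_bot]
    intro e; simp [e] at hg
  have := Nat.card_zpowers g
  rw [hz, Subgroup.card_top, hcard, hg] at this
  have := hp.out.two_le
  omega

theorem wielandt (S : Setup p α) (a₀ : α) (hα : Fintype.card α = 2 * p) :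
    MulAction.IsMultiplyPretransitive S.G α 2 ∨
      (Nat.card (MulAction.orbitRel.Quotient (MulAction.stabilizer S.G a₀) α) = 3 ∧
        ∃ a : ℕ, 0 < a ∧ p = 2 * a ^ 2 + 2 * a + 1 ∧ ∀ b : α, b ≠ a₀ →
          Nat.card (MulAction.orbit (MulAction.stabilizer S.G a₀) b) = a * (2 * a + 1) ∨
          Nat.card (MulAction.orbit (MulAction.stabilizer S.G a₀) b) = (a + 1) * (2 * a + 1)) := by
  classical
  haveI := S.prim.toIsPretransitive
  let Q := MulAction.orbitRel.Quotient (MulAction.stabilizer S.G a₀) α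
  let cls : α → Q := fun v => Quotient.mk'' v
  have hcls : ∀ v w, cls v = cls w ↔ ∃ k ∈ MulAction.stabilizer S.G a₀, k • w = v := by
    intro v w
    rw [Quotient.eq'', MulAction.orbitRel_apply, MulAction.mem_orbit_iff]
    exact ⟨fun ⟨k, hk⟩ => ⟨k, k.2, hk⟩, fun ⟨k, hk, h⟩ => ⟨⟨k, hk⟩, h⟩⟩
  have hq0 : ∀ v, cls v = cls a₀ ↔ v = a₀ := by
    intro v
    rw [hcls]
    exact ⟨fun ⟨k, hk, h⟩ => h.symm.trans hk, fun h => ⟨1, one_mem _, by rw [one_smul, h]⟩⟩
  haveI : Fintype Q := Fintype.ofFinite _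
  let ι := {q : Q // q ≠ cls a₀}
  choose gr hgr using fun u => MulAction.exists_smul_eq S.G a₀ u
  let A : ι → α → α → ℂ := fun i u v => if cls ((gr u)⁻¹ • v) = i.1 then 1 else 0
  have hnat : ∀ (g : S.G) u v, cls ((gr (g • u))⁻¹ • g • v) = cls ((gr u)⁻¹ • v) := by
    intro g u v
    rw [hcls]
    refine ⟨(gr (g • u))⁻¹ * g * gr u, ?_, ?_⟩
    · rw [MulAction.mem_stabilizer_iff, mul_smul, mul_smul, hgr u, inv_smul_eq_iff, hgr]
    · rw [smul_smul, mul_assoc, mul_inv_cancel, mul_one, mul_smul]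
  have hbase : ∀ v, cls ((gr a₀)⁻¹ • v) = cls v := by
    intro v
    rw [hcls]
    exact ⟨(gr a₀)⁻¹, inv_mem (hgr a₀), rfl⟩
  have hdiag : ∀ u v, cls ((gr u)⁻¹ • v) = cls a₀ ↔ u = v := by
    intro u v
    rw [hq0, inv_smul_eq_iff, hgr]
    exact eq_comm
  let k : ι → ℕ := fun i => (Finset.univ.filter fun v => cls v = i.1).card
  let cn : ι → ZMod p → ℕ := fun i d =>
    (if cls ((gr (S.C.e (0, 0)))⁻¹ • S.C.e (0, d)) = i.1 then 1 else 0) +
      (if cls ((gr (S.C.e (1, 0)))⁻¹ • S.C.e (1, d)) = i.1 then 1 else 0)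
  have hone : ∀ u v, u ≠ v → ∑ i : ι, (if cls ((gr u)⁻¹ • v) = i.1 then 1 else 0 : ℕ) = 1 := by
    intro u v huv
    have hne : cls ((gr u)⁻¹ • v) ≠ cls a₀ := fun h => huv ((hdiag u v).1 h)
    rw [Finset.sum_eq_single (⟨_, hne⟩ : ι)]
    · simp
    · intro j _ hj; rw [if_neg fun h => hj (Subtype.ext h.symm)]
    · simp
  let D : Subdata S ι :=
    { A := A
      k := k
      cn := cn
      inv := fun i g u v => by simp only [A, hnat]
      cn_eq := fun i d => by simp only [Setup.cfun, A, cn]; push_cast; rfl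
      cn_zero := fun i => by
        simp only [cn]
        rw [if_neg fun h => i.2 (h.symm.trans ((hdiag _ _).2 rfl)),
          if_neg fun h => i.2 (h.symm.trans ((hdiag _ _).2 rfl))]
      cn_sum := fun d hd => by
        simp only [cn, Finset.sum_add_distrib]
        rw [hone _ _ (by simp [Ne.symm hd]), hone _ _ (by simp [Ne.symm hd])]
      k_pos := fun i => by
        obtain ⟨q, hq⟩ := i
        induction q using Quotient.inductionOn' with
        | h v => exact Finset.card_pos.2 ⟨v, by simp [cls]⟩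
      k_eq := fun i => by
        have hinv : S.GInv (A i) := fun g u v => by simp only [A, hnat]
        rw [← S.rowSum_eq hinv a₀]
        simp only [A, hbase, k, Finset.card_filter]
        push_cast; rfl
      k_sum := by
        simp only [k, Finset.card_filter]
        rw [Finset.sum_comm, ← hα, ← Finset.card_univ, ← Finset.sum_erase_add _ _ (Finset.mem_univ a₀),
          Finset.sum_congr rfl (g := fun _ => 1) fun v hv => by
            have := hone a₀ v (Ne.symm (Finset.mem_erase.1 hv).1)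
            simpa only [hbase] using this,
          Finset.sum_eq_zero (fun i _ => if_neg fun h => i.2 h.symm), Finset.sum_const, add_zero,
          smul_eq_mul, mul_one, Finset.card_erase_add_one (Finset.mem_univ a₀)]
      orth := fun i j hij u z => by
        simp only [A]
        split_ifs with h1 h2
        · exact absurd (Subtype.ext (h1.symm.trans h2)) hij
        all_goals simp
      idem := fun i u z => by simp only [A]; split_ifs <;> simp
      decomp := fun X hX => by
        refine ⟨X a₀ a₀, fun i => X a₀ i.1.out, fun u v => ?_⟩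
        have h1 : X u v = X a₀ ((gr u)⁻¹ • v) := by
          conv_lhs => rw [← hX (gr u)⁻¹, show (gr u)⁻¹ • u = a₀ by rw [inv_smul_eq_iff, hgr]]
        by_cases huv : u = v
        · subst huv
          rw [if_pos rfl, Finset.sum_eq_zero fun i _ => ?_, add_zero, h1]
          · congr 1; rw [inv_smul_eq_iff, hgr]
          · simp only [A]
            rw [if_neg fun h => i.2 (h.symm.trans ((hdiag u u).2 rfl)), mul_zero]
        · have hne : cls ((gr u)⁻¹ • v) ≠ cls a₀ := fun h => huv ((hdiag u v).1 h)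
          rw [if_neg huv, zero_add, Finset.sum_eq_single (⟨_, hne⟩ : ι), h1]
          · simp only [A, if_true, mul_one]
            obtain ⟨g, hg, hgv⟩ := (hcls _ _).1 (show cls ((gr u)⁻¹ • v) = cls (cls ((gr u)⁻¹ • v)).out from
              (Quotient.out_eq' _).symm)
            have h2 := hX g a₀ (cls ((gr u)⁻¹ • v)).out
            rw [MulAction.mem_stabilizer_iff.1 hg, hgv] at h2
            exact h2
          · intro j _ hj
            simp only [A]
            rw [if_neg fun h => hj (Subtype.ext h.symm), mul_zero]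
          · simp
      diag := fun i b d => by simp only [A]; split_ifs <;> simp }
  have horbit : ∀ b (hb : cls b ≠ cls a₀),
      Nat.card (MulAction.orbit (MulAction.stabilizer S.G a₀) b) = k ⟨cls b, hb⟩ := by
    intro b hb
    rw [Nat.card_eq_fintype_card, ← Set.toFinset_card]
    congr 1
    ext v
    simp only [Set.mem_toFinset, Finset.mem_filter, Finset.mem_univ, true_and, hcls,
      MulAction.mem_orbit_iff]
    exact ⟨fun ⟨g, h⟩ => ⟨g, g.2, h⟩, fun ⟨g, hg, h⟩ => ⟨⟨g, hg⟩, h⟩⟩
  by_cases h1 : Fintype.card ι ≤ 1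
  · left
    rw [MulAction.is_two_pretransitive_iff]
    intro a b c d hab hcd
    have hsub := Fintype.card_le_one_iff_subsingleton.1 h1
    have hb : cls ((gr a)⁻¹ • b) ≠ cls a₀ := fun h => hab ((hdiag a b).1 h)
    have hd : cls ((gr c)⁻¹ • d) ≠ cls a₀ := fun h => hcd ((hdiag c d).1 h)
    have := congrArg Subtype.val (Subsingleton.elim (⟨_, hd⟩ : ι) ⟨_, hb⟩)
    obtain ⟨g, hg, hgb⟩ := (hcls _ _).1 this
    refine ⟨gr c * g * (gr a)⁻¹, ?_, ?_⟩
    · rw [mul_smul, mul_smul, show (gr a)⁻¹ • a = a₀ by rw [inv_smul_eq_iff, hgr],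
        MulAction.mem_stabilizer_iff.1 hg, hgr]
    · rw [mul_smul, mul_smul, hgb, smul_inv_smul]
  · right
    have hk1 : ∀ i, D.k i = 1 → False := by
      intro i hi
      obtain ⟨⟨q, hq⟩, rfl⟩ : ∃ j : ι, j = i := ⟨i, rfl⟩
      induction q using Quotient.inductionOn' with
      | h v =>
        have hva : v ≠ a₀ := fun e => hq (by rw [e])
        obtain ⟨g, hg, hgv⟩ := exists_moved S hα hva
        have hsub : ({v, g • v} : Finset α) ⊆ Finset.univ.filter fun w => cls w = cls v := by
          intro w hw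
          simp only [Finset.mem_filter, Finset.mem_univ, true_and]
          rcases Finset.mem_insert.1 hw with rfl | hw
          · rfl
          · rw [Finset.mem_singleton.1 hw, hcls]; exact ⟨g, hg, rfl⟩
        have h2 := Finset.card_le_card hsub
        rw [Finset.card_pair (Ne.symm hgv)] at h2
        have h3 : (Finset.univ.filter fun w => cls w = cls v).card = 1 := hi
        omega
    obtain ⟨hcard, a, ha, hpa, hk⟩ := D.classify hk1 (by omega)
    refine ⟨?_, a, ha, hpa, fun b hb => ?_⟩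
    · have h2 : Fintype.card ι = Fintype.card Q - 1 := by
        show Fintype.card {q : Q // q ≠ cls a₀} = _
        rw [Fintype.card_subtype_compl, Fintype.card_subtype_eq]
      show Nat.card Q = 3
      rw [Nat.card_eq_fintype_card]
      omega
    · have hb' : cls b ≠ cls a₀ := fun h => hb ((hq0 b).1 h)
      rw [horbit b hb']
      exact hk ⟨cls b, hb'⟩

end CfsgLib.Perm.TwoP
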